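import Groth.Agent.EtDual.K850.SpecCoh
import Groth.Agent.EtDual.K855.HomCmp
import Groth.Agent.EtDual.K152.Fib
import Groth.Agent.EtDual.K152.EndSh
import Groth.Agent.EtDual.K933.Main

/-!
# From the complexes with supports to the cohomology of the punctured spectra
-/

set_option autoImplicit false
universe u
open CategoryTheory CategoryTheory.Limits AlgebraicGeometry Opposite Abelian ComplexShape
open scoped Groth.Agent.Etcore.EtInst

namespace Groth.Agent.EtDual.K850.EndK

open Groth.Agent.Etrest Groth.Agent.Etrest.BigEtSite K343.Basic K343.Res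
open Groth.Agent.Etcore.HpullCalc Groth.Agent.Etcore.EtInst
open K855.NatCmp K855.HomCmp K152.Fib K933.PerfCat K933.Main K781.Desc

attribute [local instance] isGrothendieckAbelian_AbK

section hconst

variable {K : GrothendieckTopology Scheme.{u}} {Y : Scheme.{u}} [Good K] [ContK K Y]
  {M : Type} [AddCommGroup M] (J : InjectiveResolution ((aPullK K Y).obj (EtCoh.const Y M)))
  (hv : ∀ (V : Over Y) (q : ℕ), 0 < q →
    IsZero (((uResK K V.hom).rightDerived q).obj ((aPullK K Y).obj (EtCoh.const Y M))))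

include hv in
/-- Constant coefficients: `H^n (J(V)) ≃+ H^n(V, M)`. -/
theorem nonempty_hconst (V : Over Y) (n : ℕ) :
    Nonempty (((evA V).obj (psh J)).homology (n : ℤ) ≃+
      EtCoh.H V.left (EtCoh.const V.left M) n) :=
  ⟨(hcmp J hv V n).trans
    ((EtCoh.HF V.left n).mapIso (EtCore.pullConst V.hom M)).addCommGroupIsoToAddEquiv⟩

include hv in
/-- Vanishing. -/
theorem isZero_hconst (V : Over Y) (n : ℕ)
    (h : Subsingleton (EtCoh.H V.left (EtCoh.const V.left M) n)) :
    IsZero (((evA V).obj (psh J)).homology (n : ℤ)) := by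
  obtain ⟨e⟩ := nonempty_hconst J hv V n
  have := e.toEquiv.subsingleton
  exact AddCommGrpCat.isZero_of_subsingleton _

variable {Y₀ : Scheme.{u}} (e : Y₀ ⟶ Y) [Mono e]

include hv in
/-- `H^q(V ×_Y Y₀, M) ≃+ H^(q+1)(KF(V))` for `q ≥ 1` if `V` has no cohomology. -/
theorem nonempty_hKF (V : Over Y)
    (hV : ∀ q : ℕ, 1 ≤ q → Subsingleton (EtCoh.H V.left (EtCoh.const V.left M) q)) (q : ℕ) (hq : 1 ≤ q) :
    Nonempty (EtCoh.H (pullback V.hom e) (EtCoh.const (pullback V.hom e) M) q ≃+
      (evK V (KF e (psh J))).homology ((q : ℤ) + 1)) := by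
  have hinj : ∀ i, Injective (J.cochainComplex.X i) := fun i => inferInstance
  have hS := K152.Fib.shortExact_SK e J.cochainComplex hinj
  obtain ⟨e1⟩ := nonempty_hconst J hv ((E e).obj V) q
  obtain ⟨e2⟩ := nonempty_homology_KF hS V (q : ℤ) ((q : ℤ) + 1) rfl
    (isZero_hconst J hv V q (hV q hq)) (by
      have h := isZero_hconst J hv V (q + 1) (hV (q + 1) (by omega))
      exact_mod_cast h)
  exact ⟨e1.symm.trans e2.addCommGroupIsoToAddEquiv⟩

end hconst

section range

variable {d : ℕ} {Y₀ : Scheme.{u}} (e : Y₀ ⟶ Spec (Pd.{u} d))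
  (he : Set.range e = (PrimeSpectrum.zeroLocus
    (Set.range (MvPolynomial.X : Fin d → MvPolynomial (Fin d) (ULift.{u} ℤ))))ᶜ)

include he in
/-- `Spec R ×_Y Y₀` is the complement of `V(g)`. -/
theorem range_fst (R : Type u) [CommRing R] (g : Fin d → R) :
    Set.range (pullback.fst (ptS R g).hom e) = (PrimeSpectrum.zeroLocus (Set.range g))ᶜ := by
  rw [Scheme.Pullback.range_fst, he]
  have h1 : (fun i => evP g (MvPolynomial.X i)) = g := funext fun i => evP_X g i
  have h2 : Set.range g = evP g '' Set.range (MvPolynomial.X : Fin d → MvPolynomial (Fin d) (ULift.{u} ℤ)) := by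
    rw [← Set.range_comp]
    exact congrArg Set.range h1.symm
  rw [h2]
  exact congrArg compl (PrimeSpectrum.preimage_comap_zeroLocus (evP g) _)

end range

section final

open Groth.Agent.EtDual.K375.Tower IsLocalRing

variable {p : ℕ} [Fact p.Prime] {k : Type u} [Field k] [CharP k p] [PerfectRing k p]
  [IsAlgClosed k] {d : ℕ} {f : A p k d}
  (hf : f ∈ Ideal.span (Set.range (MvPowerSeries.X : Fin d → A p k d)))
  {S : Type u} [CommRing S] {φ : MvPowerSeries (Fin d) k →+* S} (h : K152.RadInv.IsRad p φ)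
  {K : GrothendieckTopology Scheme.{u}} [Good K] [ContK K (Spec (Pd.{u} d))] {n : ℕ}
  (J : InjectiveResolution ((aPullK K (Spec (Pd.{u} d))).obj (EtCoh.const (Spec (Pd.{u} d)) (ZMod n))))
  (hv : ∀ (V : Over (Spec (Pd.{u} d))) (q : ℕ), 0 < q →
    IsZero (((uResK K V.hom).rightDerived q).obj
      ((aPullK K (Spec (Pd.{u} d))).obj (EtCoh.const (Spec (Pd.{u} d)) (ZMod n)))))
  {Y₀ : Scheme.{u}} (e : Y₀ ⟶ Spec (Pd.{u} d)) [IsOpenImmersion e]
  (he : Set.range e = (PrimeSpectrum.zeroLocus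
    (Set.range (MvPolynomial.X : Fin d → MvPolynomial (Fin d) (ULift.{u} ℤ))))ᶜ)

include hf h hv he in
/-- **END**: weak punctual purity of `R_∞` from the comparison of the complexes with supports. -/
theorem puncWeakAt [IsLocalRing (Rinf f)] (hd : 1 ≤ d) (hn0 : 0 < n) (hn : (n : k) ≠ 0)
    (hiso : ∀ i : ℤ, Nonempty
      ((evO (ptS S (fun i => φ (MvPowerSeries.X i))) (KF e (psh J))).homology i ≅
        (evO (ptS (Rinf f) (xInf f 0)) (KF e (psh J))).homology i)) :
    K726.PuncWeakAt n (Rinf f) d := by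
  let j' : pullback (ptS S (fun i => φ (MvPowerSeries.X i))).hom e ⟶ Spec (CommRingCat.of S) :=
    pullback.fst (ptS S (fun i => φ (MvPowerSeries.X i))).hom e
  let j : pullback (ptS (Rinf f) (xInf f 0)).hom e ⟶ Spec (CommRingCat.of (Rinf f)) :=
    pullback.fst (ptS (Rinf f) (xInf f 0)).hom e
  have o1 : IsOpenImmersion j' :=
    inferInstanceAs (IsOpenImmersion (pullback.fst (ptS S (fun i => φ (MvPowerSeries.X i))).hom e))
  have o2 : IsOpenImmersion j :=
    inferInstanceAs (IsOpenImmersion (pullback.fst (ptS (Rinf f) (xInf f 0)).hom e))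
  refine K152.EndSh.puncWeakAt_of_equiv hf h j' (range_fst e he S _) j (range_fst e he (Rinf f) _) hd hn0 hn
    fun q hq => ?_
  obtain ⟨e1⟩ := nonempty_hKF J hv e (ptS (Rinf f) (xInf f 0))
    (fun q hq => SpecCoh.subsingleton_H_Rinf hf _ q hq) q hq
  obtain ⟨e2⟩ := nonempty_hKF J hv e (ptS S (fun i => φ (MvPowerSeries.X i)))
    (fun q hq => SpecCoh.subsingleton_H_Sinf h _ q hq) q hq
  obtain ⟨e3⟩ := hiso ((q : ℤ) + 1)
  exact ⟨e1.trans (e3.symm.addCommGroupIsoToAddEquiv.trans e2.symm)⟩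

end final

end Groth.Agent.EtDual.K850.EndK
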