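import Groth.Agent.EtDual.K850.RedC
import Groth.Agent.EtDual.K152.PuncPS

/-!
# Weak punctual purity follows from the case of the rings `R_∞`
-/

set_option autoImplicit false
universe u

namespace Groth.Agent.EtDual.K850.Red

open Groth.Agent.EtDual.K375.Tower in
/-- **Reduction** of weak punctual purity (coefficients `ℤ/ℓ`) to the rings `R_∞` of the perfectoid
tower (the equal characteristic case is known). -/
theorem puncWeak_of_Rinf (ℓ : ℕ) (hℓ : ℓ.Prime)
    (Hinf : ∀ (p : ℕ) [Fact p.Prime] (k : Type u) [Field k] [IsAlgClosed k] [CharP k p]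
      [PerfectRing k p] (d : ℕ) (f : A p k d)
      (hf : f ∈ Ideal.span (Set.range (MvPowerSeries.X : Fin d → A p k d))),
      (p : Rm f 0) ≠ 0 → ℓ ≠ p → 2 ≤ d →
      haveI := isLocalRing_Rinf hf
      K726.PuncWeakAt ℓ (Rinf f) d) : K726.PuncWeak.{u} ℓ :=
  puncWeak ℓ hℓ (fun A _ _ hA hu hch d hd hd2 =>
    K152.PuncPS.puncWeakAt_of_equalChar A hA hch hℓ.pos hu hd (by omega)) Hinf

end Groth.Agent.EtDual.K850.Red
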