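import Groth.Agent.Sga4h.NcTransfer
import Groth.Agent.Sga4h.EulerSpec

/-!
# Ring homomorphisms inducing injections on étale cohomology

`CohInj n φ` (`φ : A ⟶ B` in `CommRingCat`): for every quasi-compact quasi-separated `f : X ⟶ Spec A`,
every abelian étale sheaf `F` on `X` killed by `n` and every `q`, the map
`H^q(X, F) → H^q(X ×_{Spec A} Spec B, F)` is injective.

* `CohInj.comp`, `CohInj.id`, `CohInj.of_isIso`;
* `CohInj.of_free`: `B` finite free over `A` of rank prime to `n` (trace);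
* `CohInj.colim`: directed colimits under `A`;
* `CohInj.injective_Hpull`: the consequence for `EtCore.Hpull`.
-/

set_option autoImplicit false
universe u
open CategoryTheory CategoryTheory.Limits AlgebraicGeometry Opposite Abelian
open scoped Groth.Agent.Etcore.EtInst
open Groth.Agent.Etcore.EtInst Groth.Agent.Etcore.HpullCalc
open Groth.Agent.Sga4h.NcTransfer

namespace Groth.Agent.EtDual.K850

/-- Base change along `φ` is injective on étale cohomology with coefficients killed by `n`. -/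
def CohInj (n : ℕ) {A B : CommRingCat.{u}} (φ : A ⟶ B) : Prop :=
  ∀ ⦃X Y : Scheme.{u}⦄ (f : X ⟶ Spec A) (g : Y ⟶ X) (f' : Y ⟶ Spec B),
    IsPullback g f' f (Spec.map φ) → QuasiCompact f → QuasiSeparated f →
    ∀ (F : EtCoh.Ab X), EtCoh.KilledBy n F → ∀ (q : ℕ) (x : HH X F q), hp g F q x = 0 → x = 0

/-- It is enough to look at the chosen fibre products. -/
theorem CohInj.of_fst {n : ℕ} {A B : CommRingCat.{u}} {φ : A ⟶ B}
    (h : ∀ ⦃X : Scheme.{u}⦄ (f : X ⟶ Spec A), QuasiCompact f → QuasiSeparated f →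
      ∀ (F : EtCoh.Ab X), EtCoh.KilledBy n F → ∀ (q : ℕ) (x : HH X F q),
        hp (pullback.fst f (Spec.map φ)) F q x = 0 → x = 0) : CohInj n φ := by
  intro X Y f g f' hsq hqc hqs F hF q x hx
  refine h f hqc hqs F hF q x ?_
  let e : Y ⟶ pullback f (Spec.map φ) := hsq.isoPullback.hom
  have he : e ≫ pullback.fst f (Spec.map φ) = g := hsq.isoPullback_hom_fst
  have h2 := (hp_comp_eq_zero_iff e (pullback.fst f (Spec.map φ)) g he F q x).2 hx
  have h3 := (bijective_hp_of_isIso e ((EtCoh.pull (pullback.fst f (Spec.map φ))).obj F) q).1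
  exact h3 (h2.trans (map_zero _).symm)

theorem CohInj.comp {n : ℕ} {A B C : CommRingCat.{u}} {φ : A ⟶ B} {ψ : B ⟶ C}
    (hφ : CohInj n φ) (hψ : CohInj n ψ) : CohInj n (φ ≫ ψ) := by
  intro X Y f g f' hsq hqc hqs F hF q x hx
  let p : pullback f (Spec.map φ) ⟶ X := pullback.fst f (Spec.map φ)
  let s : pullback f (Spec.map φ) ⟶ Spec B := pullback.snd f (Spec.map φ)
  have hw : g ≫ f = (f' ≫ Spec.map ψ) ≫ Spec.map φ := by
    rw [hsq.w, Spec.map_comp, Category.assoc]
  let l : Y ⟶ pullback f (Spec.map φ) := pullback.lift g (f' ≫ Spec.map ψ) hw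
  have hl1 : l ≫ p = g := pullback.lift_fst _ _ _
  have hl2 : l ≫ s = f' ≫ Spec.map ψ := pullback.lift_snd _ _ _
  have hsq1 : IsPullback p s f (Spec.map φ) := IsPullback.of_hasPullback _ _
  have hsq2 : IsPullback l f' s (Spec.map ψ) := by
    refine IsPullback.of_right (h₁₂ := p) (v₁₃ := f) (h₂₂ := Spec.map φ) ?_ hl2 hsq1
    rw [hl1, ← Spec.map_comp]
    exact hsq
  refine hφ f p s hsq1 hqc hqs F hF q x ?_
  have hsc : QuasiCompact s := inferInstanceAs (QuasiCompact (pullback.snd f (Spec.map φ)))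
  have hss : QuasiSeparated s := inferInstanceAs (QuasiSeparated (pullback.snd f (Spec.map φ)))
  refine hψ s l f' hsq2 hsc hss _
    (Groth.Agent.Sga4h.EulerSpec.killedBy_pull p hF) q _ ?_
  exact (hp_comp_eq_zero_iff l p g hl1 F q x).2 hx

theorem CohInj.of_isIso {n : ℕ} {A B : CommRingCat.{u}} (φ : A ⟶ B) [IsIso φ] : CohInj n φ := by
  refine CohInj.of_fst fun X f _ _ F _ q x hx => ?_
  exact (bijective_hp_of_isIso (pullback.fst f (Spec.map φ)) F q).1 (hx.trans (map_zero _).symm)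

theorem CohInj.id (n : ℕ) (A : CommRingCat.{u}) : CohInj n (𝟙 A) := CohInj.of_isIso _

/-- The trace: finite free extensions of rank prime to `n`. -/
theorem CohInj.of_free {n : ℕ} (A B : Type u) [CommRing A] [CommRing B] [Algebra A B]
    [Nontrivial A] [Module.Finite A B] [Module.Free A B] (hn : (Module.finrank A B).Coprime n) :
    CohInj n (CommRingCat.ofHom (algebraMap A B)) := by
  refine CohInj.of_fst fun X f _ _ F hF q x hx => ?_
  have h1 : IsFinite (Spec.map (CommRingCat.ofHom (algebraMap A B))) := by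
    rw [IsFinite.SpecMap_iff]
    exact RingHom.finite_algebraMap.2 inferInstance
  have h2 : Flat (Spec.map (CommRingCat.ofHom (algebraMap A B))) := by
    rw [Flat.SpecMap_iff]
    exact RingHom.flat_algebraMap_iff.2 inferInstance
  have h3 : LocallyOfFinitePresentation (Spec.map (CommRingCat.ofHom (algebraMap A B))) := by
    rw [LocallyOfFinitePresentation.SpecMap_iff]
    have : Module.FinitePresentation A B := Module.finitePresentation_of_projective A B
    exact (RingHom.finitePresentation_algebraMap (A := A) (B := B)).2 inferInstance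
  refine eq_zero_of_hp (pullback.fst f (Spec.map (CommRingCat.ofHom (algebraMap A B))))
    (Module.finrank A B) (fun s => ?_) n hn F hF q x hx
  rw [Scheme.Hom.finrank_pullback_fst]
  refine (Scheme.Hom.finrank_SpecMap_algebraMap A B _).trans ?_
  exact congrFun (Module.rankAtStalk_eq_finrank_of_free (R := A) (M := B)) _

/-- A class dying in the base change to the limit dies at a finite stage. -/
theorem exists_hp_fst_eq_zero {J : Type u} [Preorder J] [IsDirected J (· ≤ ·)] [Nonempty J]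
    (T : Jᵒᵖ ⥤ Scheme.{u}) (hT : ∀ a, CompactSpace (T.obj a))
    (hT' : ∀ a, QuasiSeparatedSpace (T.obj a))
    (haff : ∀ ⦃a b : Jᵒᵖ⦄ (h : a ⟶ b), IsAffineHom (T.map h))
    (cc : Cone T) (hcc : IsLimit cc) {S X : Scheme.{u}}
    (σ : ∀ a : Jᵒᵖ, T.obj a ⟶ S) (hσ : ∀ ⦃a b : Jᵒᵖ⦄ (h : a ⟶ b), T.map h ≫ σ b = σ a)
    (t' : cc.pt ⟶ S) (ht' : ∀ a, cc.π.app a ≫ σ a = t')
    (f : X ⟶ S) [QuasiCompact f] [QuasiSeparated f] (F : EtCoh.Ab X) (q : ℕ) (x : HH X F q)
    (hx : hp (pullback.fst f t') F q x = 0) :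
    ∃ k : J, hp (pullback.fst f (σ (op k))) F q x = 0 := by
  let c' := Groth.Agent.Etcore.PullbackLim.cone T σ hσ f cc t' ht'
  have hc' : IsLimit c' := Groth.Agent.Etcore.PullbackLim.isLimitCone T σ hσ f cc t' ht' hcc
  let i₀ : J := Classical.arbitrary J
  let p₀ : pullback f (σ (op i₀)) ⟶ X := pullback.fst f (σ (op i₀))
  have h4 : hp (Groth.Agent.Etcore.PullbackLim.proj T σ f cc t' ht' (op i₀)) _ q
      (hp p₀ F q x) = 0 :=
    (hp_comp_eq_zero_iff (Groth.Agent.Etcore.PullbackLim.proj T σ f cc t' ht' (op i₀)) p₀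
      (pullback.fst f t')
      (Groth.Agent.Etcore.PullbackLim.proj_fst T σ f cc t' ht' (op i₀)) F q x).2 hx
  obtain ⟨k, hk, h5⟩ := exists_hp_eq_zero
    (Groth.Agent.Etcore.PullbackLim.sys T σ hσ f)
    (fun a b h => Groth.Agent.Etcore.PullbackLim.isAffineHom_mapp T σ hσ f haff h)
    (fun a => Groth.Agent.Etcore.PullbackLim.compactSpace_obj T σ hσ f a)
    (fun a => Groth.Agent.Etcore.PullbackLim.quasiSeparatedSpace_obj T σ hσ f a)
    c' hc' i₀ ((EtCoh.pull p₀).obj F) q (hp p₀ F q x) h4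
  exact ⟨k, (hp_comp_eq_zero_iff (Groth.Agent.Etcore.PullbackLim.mapp T σ hσ f (homOfLE hk).op)
      p₀ (pullback.fst f (σ (op k)))
      (Groth.Agent.Etcore.PullbackLim.mapp_fst T σ hσ f (homOfLE hk).op) F q x).1 h5⟩

/-- Directed colimits. -/
theorem CohInj.colim {n : ℕ} {J : Type u} [Preorder J] [IsDirected J (· ≤ ·)] [Nonempty J]
    (D : J ⥤ CommRingCat.{u}) (c : Cocone D) (hc : IsColimit c) {A : CommRingCat.{u}}
    (τ : ∀ j, A ⟶ D.obj j) (hτ : ∀ ⦃i j : J⦄ (h : i ⟶ j), τ i ≫ D.map h = τ j)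
    (h : ∀ j, CohInj n (τ j)) (t : A ⟶ c.pt) (ht : ∀ j, τ j ≫ c.ι.app j = t) :
    CohInj n t := by
  refine CohInj.of_fst fun X f hqc hqs F hF q x hx => ?_
  obtain ⟨k, hk⟩ := exists_hp_fst_eq_zero (Groth.Agent.Etcore.PullbackLim.specSys D)
    (fun a => inferInstanceAs (CompactSpace (Spec (D.obj a.unop))))
    (fun a => inferInstanceAs (QuasiSeparatedSpace (Spec (D.obj a.unop))))
    (fun a b h => Groth.Agent.Etcore.PullbackLim.isAffineHom_specSys D h)
    (Groth.Agent.Etcore.PullbackLim.specCone D c)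
    (Groth.Agent.Etcore.PullbackLim.isLimitSpecCone _ _ hc) (S := Spec A)
    (fun a => Spec.map (τ a.unop)) (fun a b h => by
      change Spec.map (D.map h.unop) ≫ Spec.map (τ b.unop) = Spec.map (τ a.unop)
      rw [← Spec.map_comp, hτ])
    (Spec.map t) (fun a => by
      change Spec.map (c.ι.app a.unop) ≫ Spec.map (τ a.unop) = Spec.map t
      rw [← Spec.map_comp, ht]) f F q x hx
  exact h k f _ _ (IsPullback.of_hasPullback f (Spec.map (τ k))) hqc hqs F hF q x hk

/-- The consequence for `EtCore.Hpull`. -/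
theorem CohInj.injective_Hpull {n : ℕ} {A B : CommRingCat.{u}} {φ : A ⟶ B} (h : CohInj n φ)
    {X Y : Scheme.{u}} (f : X ⟶ Spec A) (g : Y ⟶ X) (f' : Y ⟶ Spec B)
    (hsq : IsPullback g f' f (Spec.map φ)) [QuasiCompact f] [QuasiSeparated f]
    [PreservesFiniteLimits (EtCoh.pull g)] (F : EtCoh.Ab X) (hF : EtCoh.KilledBy n F) (q : ℕ) :
    Function.Injective (EtCore.Hpull g F q) := by
  rw [injective_iff_map_eq_zero]
  intro x hx
  exact h f g f' hsq ‹_› ‹_› F hF q x ((Hpull_apply_eq_hp g F q x).symm.trans hx)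

end Groth.Agent.EtDual.K850
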