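import Groth.Agent.EtDual.K850.CohInj
import Groth.Agent.EtDual.K726.Iface
import Groth.Agent.EtpbcB.TorsionBasic
import Mathlib.RingTheory.LocalRing.RingHom.Basic

/-!
# Weak punctual purity passes down along cohomologically injective local homomorphisms
-/

set_option autoImplicit false
universe u
open CategoryTheory CategoryTheory.Limits AlgebraicGeometry Opposite Abelian
open scoped Groth.Agent.Etcore.EtInst
open Groth.Agent.Etcore.EtInst Groth.Agent.Etcore.HpullCalc IsLocalRing

namespace Groth.Agent.EtDual.K850.Red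

/-- Constant coefficients. -/
theorem exists_injective_H {X Y : Scheme.{u}} (g : Y ⟶ X) [PreservesFiniteLimits (EtCoh.pull g)]
    (M : Type) [AddCommGroup M] (q : ℕ)
    (h : Function.Injective (EtCore.Hpull g (EtCoh.const X M) q)) :
    ∃ j : EtCoh.H X (EtCoh.const X M) q → EtCoh.H Y (EtCoh.const Y M) q,
      Function.Injective j := by
  let e := (EtCoh.HF Y q).mapIso (EtCore.pullConst g M)
  refine ⟨fun x => e.hom.hom (EtCore.Hpull g (EtCoh.const X M) q x), ?_⟩
  have he : Function.Injective e.hom.hom := (ConcreteCategory.bijective_of_isIso e.hom).1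
  exact he.comp h

theorem mem_puncturedSpec {A : Type u} [CommRing A] [IsLocalRing A] (z : PrimeSpectrum A) :
    z ∈ FEt.puncturedSpec A ↔ z.asIdeal ≠ maximalIdeal A := by
  refine ⟨fun h h' => h (PrimeSpectrum.ext h'), fun h h' => h ?_⟩
  rw [Set.mem_singleton_iff.1 h']
  rfl

/-- The preimage of the punctured spectrum. -/
theorem preimage_puncturedSpec {A B : Type u} [CommRing A] [CommRing B] [IsLocalRing A]
    [IsLocalRing B] (φ : A →+* B) (hφ : IsLocalHom φ)
    (hm : maximalIdeal B ≤ ((maximalIdeal A).map φ).radical) :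
    Spec.map (CommRingCat.ofHom φ) ⁻¹ᵁ FEt.puncturedSpec A = FEt.puncturedSpec B := by
  refine TopologicalSpace.Opens.ext (Set.ext fun (w : PrimeSpectrum B) => ?_)
  refine (mem_puncturedSpec (PrimeSpectrum.comap φ w)).trans (Iff.trans ?_
    (mem_puncturedSpec w).symm)
  rw [not_iff_not]
  constructor
  · intro h
    have h1 : (maximalIdeal A).map φ ≤ w.asIdeal := by
      rw [Ideal.map_le_iff_le_comap]
      exact h.ge
    have h2 : maximalIdeal B ≤ w.asIdeal :=
      hm.trans ((Ideal.IsPrime.radical_le_iff w.2).2 h1)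
    exact ((maximalIdeal.isMaximal B).eq_of_le w.2.ne_top h2).symm
  · intro h
    change w.asIdeal.comap φ = maximalIdeal A
    rw [h]
    exact IsLocalRing.maximalIdeal_comap φ

variable {A B : Type u} [CommRing A] [CommRing B] [IsLocalRing A] [IsLocalRing B]

theorem puncWeakAt_of_injective (ℓ : ℕ) (d : ℕ) (φ : A →+* B) (hφ : IsLocalHom φ)
    (hm : maximalIdeal B ≤ ((maximalIdeal A).map φ).radical)
    (hinj : ∀ q : ℕ, 0 < q → Function.Injective
      (EtCore.Hpull (Spec.map (CommRingCat.ofHom φ) ∣_ FEt.puncturedSpec A)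
        (EtCoh.const (FEt.puncturedSpec A : Scheme.{u}) (ZMod ℓ)) q))
    (hd : 1 ≤ d) (h : K726.PuncWeakAt ℓ B d) : K726.PuncWeakAt ℓ A d := by
  have key : ∀ q : ℕ, 0 < q → ∃ j : EtCoh.H (FEt.puncturedSpec A : Scheme.{u})
      (EtCoh.const (FEt.puncturedSpec A : Scheme.{u}) (ZMod ℓ)) q →
      EtCoh.H (FEt.puncturedSpec B : Scheme.{u})
        (EtCoh.const (FEt.puncturedSpec B : Scheme.{u}) (ZMod ℓ)) q, Function.Injective j := by
    intro q hq
    have h1 := exists_injective_H (Spec.map (CommRingCat.ofHom φ) ∣_ FEt.puncturedSpec A)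
      (ZMod ℓ) q (hinj q hq)
    rw [preimage_puncturedSpec φ hφ hm] at h1
    exact h1
  refine ⟨fun q hq hq' => ?_, ?_, ?_⟩
  · obtain ⟨j, hj⟩ := key q hq
    have := h.van q hq hq'
    exact hj.subsingleton
  · obtain ⟨j, hj⟩ := key (2 * d - 1) (by omega)
    have := h.finite
    exact Finite.of_injective j hj
  · obtain ⟨j, hj⟩ := key (2 * d - 1) (by omega)
    have := h.finite
    exact (Nat.card_le_card_of_injective j hj).trans h.card_le

theorem killedBy_const (X : Scheme.{u}) (n : ℕ) : EtCoh.KilledBy n (EtCoh.const X (ZMod n)) :=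
  Groth.Agent.EtpbcB.TorsionBasic.killedBy_const (ZMod n) n fun x => by
    rw [nsmul_eq_mul, ZMod.natCast_self, zero_mul]

/-- The form for `CohInj`. -/
theorem puncWeakAt_of_cohInj (ℓ : ℕ) (d : ℕ) (φ : A →+* B) (hφ : IsLocalHom φ)
    (hm : maximalIdeal B ≤ ((maximalIdeal A).map φ).radical)
    (hqc : QuasiCompact (FEt.puncturedSpec A).ι)
    (hinj : CohInj ℓ (CommRingCat.ofHom φ)) (hd : 1 ≤ d) (h : K726.PuncWeakAt ℓ B d) :
    K726.PuncWeakAt ℓ A d := by
  refine puncWeakAt_of_injective ℓ d φ hφ hm (fun q _ => ?_) hd h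
  exact hinj.injective_Hpull (FEt.puncturedSpec A).ι
    (Spec.map (CommRingCat.ofHom φ) ∣_ FEt.puncturedSpec A)
    (Spec.map (CommRingCat.ofHom φ) ⁻¹ᵁ FEt.puncturedSpec A).ι
    (isPullback_morphismRestrict _ _) _ (killedBy_const _ ℓ) q

end Groth.Agent.EtDual.K850.Red
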