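import Groth.Agent.EtDual.K850.CohInj
import Groth.Agent.EtDual.K375.TowerInf

/-!
# The tower `R_0 → R_∞` is cohomologically injective
-/

set_option autoImplicit false
universe u
open CategoryTheory CategoryTheory.Limits AlgebraicGeometry Opposite
open IsLocalRing

namespace Groth.Agent.EtDual.K850.Red

open Groth.Agent.EtDual.K375.Tower

variable {p : ℕ} [Fact p.Prime] {k : Type u} [Field k] [CharP k p] {d : ℕ}

/-- The tower as a functor. -/
noncomputable def towerD (f : A p k d) : ULift.{u} ℕ ⥤ CommRingCat.{u} where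
  obj i := CommRingCat.of (Rm f i.down)
  map {i j} h := CommRingCat.ofHom (trLE f (ULift.down_le.2 (leOfHom h)))
  map_id i := CommRingCat.hom_ext (RingHom.ext fun x => trLE_refl f i.down x)
  map_comp {i j l} h h' := CommRingCat.hom_ext (RingHom.ext fun x =>
    (trLE_trans f (ULift.down_le.2 (leOfHom h)) (ULift.down_le.2 (leOfHom h')) x).symm)

/-- The colimit cocone. -/
noncomputable def towerC (f : A p k d) : Cocone (towerD f) where
  pt := CommRingCat.of (Rinf f)
  ι :=
    { app := fun i => CommRingCat.ofHom (toInf f i.down)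
      naturality := fun i j h => CommRingCat.hom_ext (RingHom.ext fun x =>
        toInf_trLE f (ULift.down_le.2 (leOfHom h)) x) }

theorem nonempty_isColimit_towerC (f : A p k d) : Nonempty (IsColimit (towerC f)) := by
  apply Groth.Agent.Etcore.FGLim.nonempty_isColimit
  · intro (x : Rinf f)
    obtain ⟨m, a, ha⟩ := exists_toInf f x
    exact ⟨ULift.up m, a, ha⟩
  · intro i y z h
    exact ⟨i, 𝟙 i, congrArg _ (toInf_injective f i.down h)⟩

/-- `R_0 → R_n` is cohomologically injective. -/
theorem cohInj_trLE (ℓ : ℕ) (hℓ : ℓ.Coprime p) (f : A p k d) {m n : ℕ} (h : m ≤ n)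
    [Nontrivial (Rm f m)] : CohInj ℓ (CommRingCat.ofHom (trLE f h)) := by
  let _ : Algebra (Rm f m) (Rm f n) := (trLE f h).toAlgebra
  obtain ⟨h1, h2⟩ := trLE_free f h
  have h3 : Module.finrank (Rm f m) (Rm f n) = p ^ (d * (n - m)) := trLE_finrank f h
  exact CohInj.of_free (Rm f m) (Rm f n) (by rw [h3]; exact (hℓ.pow_right _).symm)

/-- `R_m → R_∞` is cohomologically injective (here `m = 0`). -/
theorem cohInj_toInf (ℓ : ℕ) (hℓ : ℓ.Coprime p) (f : A p k d) [Nontrivial (Rm f 0)] :
    CohInj ℓ (CommRingCat.ofHom (toInf f 0)) := by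
  refine CohInj.colim (towerD f) (towerC f) (nonempty_isColimit_towerC f).some
    (A := CommRingCat.of (Rm f 0))
    (fun j => CommRingCat.ofHom (trLE f (Nat.zero_le j.down))) ?_
    (fun j => cohInj_trLE ℓ hℓ f (Nat.zero_le _)) _ ?_
  · intro i j h
    exact CommRingCat.hom_ext (RingHom.ext fun x =>
      trLE_trans f (Nat.zero_le i.down) (ULift.down_le.2 (leOfHom h)) x)
  · intro j
    exact CommRingCat.hom_ext (RingHom.ext fun x => toInf_trLE f (Nat.zero_le j.down) x)

end Groth.Agent.EtDual.K850.Red
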