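import Groth.Agent.EtDual.K850.ResPerf
import Groth.Agent.CurvesB.FlatRegular
import Groth.Agent.CalgA.RegBasic
import Groth.Agent.S1964
import Mathlib.FieldTheory.PurelyInseparable.Basic
import Mathlib.FieldTheory.IsAlgClosed.AlgebraicClosure

/-!
# Residue field extension of regular strictly henselian local rings

`exists_perfect_residue`: a regular local ring `A` with residue field of characteristic `q > 0` has an
integral flat local extension `B`, regular of the same dimension, `m_A B = m_B`, with perfect residue field
(the perfect closure), such that `H^i(X, F) → H^i(X_B, F)` is injective for all `X` over `A` and torsion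
coefficients prime to `q`.

`exists_algClosed_residue`: if `A` is strictly henselian, then so is `B`, with algebraically closed residue
field.
-/

set_option autoImplicit false

universe u

namespace Groth.Agent.EtDual.K850.ResPerf

open CategoryTheory CategoryTheory.Limits IsLocalRing

/-- Noetherian local rings: purely inseparable residue extension `K`. -/
theorem exists_residue_of_isPurelyInseparable (A : Type u) [CommRing A] [IsLocalRing A]
    [IsNoetherianRing A] (q : ℕ) [Fact q.Prime] [CharP (ResidueField A) q]
    (K : Type u) [Field K] [Algebra (ResidueField A) K] [IsPurelyInseparable (ResidueField A) K] :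
    ∃ (B : Type u) (_ : CommRing B) (_ : Algebra A B) (_ : IsLocalRing B)
      (_ : IsLocalHom (algebraMap A B)),
      IsNoetherianRing B ∧ Module.Flat A B ∧ Algebra.IsIntegral A B ∧
        (maximalIdeal A).map (algebraMap A B) = maximalIdeal B ∧
        ringKrullDim B = ringKrullDim A ∧ (IsRegularLocalRing A → IsRegularLocalRing B) ∧
        Nonempty (ResidueField B ≃ₐ[ResidueField A] K) ∧
        ∀ n : ℕ, n.Coprime q → CohInj n (CommRingCat.ofHom (algebraMap A B)) := by
  have hK : CharP K q := charP_of_injective_algebraMap (algebraMap (ResidueField A) K).injective q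
  let σ : A →+* K := (algebraMap (ResidueField A) K).comp (residue A)
  have hσ : RingHom.ker σ = maximalIdeal A := by
    ext a
    rw [RingHom.mem_ker, RingHom.comp_apply, map_eq_zero, residue_eq_zero_iff]
  have : ExpChar (ResidueField A) q := ExpChar.prime Fact.out
  obtain ⟨B, _, _, _, τ, h1, h2, h3, h4, h5, h6, h7, h8, h9⟩ :=
    exists_flat_local_ext_insep q σ hσ (fun a => by
      obtain ⟨r, x, hx⟩ := IsPurelyInseparable.pow_mem (ResidueField A) q a
      obtain ⟨y, rfl⟩ := residue_surjective x
      exact ⟨r, y, hx⟩)
  have hN : IsNoetherianRing B := h3 inferInstance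
  refine ⟨B, inferInstance, inferInstance, inferInstance, h1, hN, h2, h8, h4,
    (Groth.Agent.CurvesB.FlatRegular.ringKrullDim_eq A B h4).symm,
    (Groth.Agent.CurvesB.FlatRegular.isRegularLocalRing_iff A B h4).1, ?_, h9⟩
  let e : ResidueField B ≃+* K :=
    (Ideal.quotEquivOfEq h5.symm).trans (RingHom.quotientKerEquivOfSurjective h7)
  have he : ∀ b : B, e (residue B b) = τ b := fun b => rfl
  refine ⟨AlgEquiv.ofRingEquiv (f := e) ?_⟩
  intro x
  obtain ⟨a, rfl⟩ := residue_surjective x
  have h1 : algebraMap (ResidueField A) (ResidueField B) (residue A a) =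
      residue B (algebraMap A B a) := rfl
  rw [h1, he]
  exact RingHom.congr_fun h6 a

/-- The residue field of a regular local ring can be made perfect. -/
theorem exists_perfect_residue (A : Type u) [CommRing A] [IsRegularLocalRing A]
    (q : ℕ) [Fact q.Prime] [CharP (ResidueField A) q] :
    ∃ (B : Type u) (_ : CommRing B) (_ : Algebra A B) (_ : IsRegularLocalRing B)
      (_ : IsLocalHom (algebraMap A B)),
      CharP (ResidueField B) q ∧ PerfectRing (ResidueField B) q ∧ Module.Flat A B ∧ Algebra.IsIntegral A B ∧
        (maximalIdeal A).map (algebraMap A B) = maximalIdeal B ∧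
        ringKrullDim B = ringKrullDim A ∧
        ∀ n : ℕ, n.Coprime q → CohInj n (CommRingCat.ofHom (algebraMap A B)) := by
  have : ExpChar (ResidueField A) q := ExpChar.prime Fact.out
  obtain ⟨B, _, _, _, h0, h1, h2, h3, h4, h5, h6, ⟨e⟩, h8⟩ :=
    exists_residue_of_isPurelyInseparable A q
      (perfectClosure (ResidueField A) (AlgebraicClosure (ResidueField A)))
  have hB : IsRegularLocalRing B := h6 inferInstance
  have : ExpChar (AlgebraicClosure (ResidueField A)) q :=
    expChar_of_injective_algebraMap
      (algebraMap (ResidueField A) (AlgebraicClosure (ResidueField A))).injective q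
  have hp : PerfectRing (perfectClosure (ResidueField A) (AlgebraicClosure (ResidueField A))) q :=
    inferInstance
  refine ⟨B, inferInstance, inferInstance, hB, h0,
    charP_of_injective_algebraMap (algebraMap (ResidueField A) (ResidueField B)).injective q,
    ⟨?_⟩, h2, h3, h4, h5, h8⟩
  have h := hp.bijective_frobenius
  have h' : (fun x : ResidueField B => x ^ q) = e.symm ∘ (fun x => x ^ q) ∘ e := by
    funext x
    simp only [Function.comp_apply, ← map_pow, AlgEquiv.symm_apply_apply]
  rw [h']
  exact e.symm.bijective.comp (h.comp e.bijective)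

/-- The residue field of a strictly henselian regular local ring can be made algebraically closed. -/
theorem exists_algClosed_residue (A : Type u) [CommRing A] [IsRegularLocalRing A]
    (hA : EtCoh.IsStrictlyHenselianLocalRing A) (q : ℕ) [Fact q.Prime]
    [CharP (ResidueField A) q] :
    ∃ (B : Type u) (_ : CommRing B) (_ : Algebra A B) (_ : IsRegularLocalRing B)
      (_ : IsLocalHom (algebraMap A B)),
      EtCoh.IsStrictlyHenselianLocalRing B ∧ IsAlgClosed (ResidueField B) ∧
        CharP (ResidueField B) q ∧ Module.Flat A B ∧ Algebra.IsIntegral A B ∧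
        (maximalIdeal A).map (algebraMap A B) = maximalIdeal B ∧
        ringKrullDim B = ringKrullDim A ∧
        ∀ n : ℕ, n.Coprime q → CohInj n (CommRingCat.ofHom (algebraMap A B)) := by
  obtain ⟨_, hsep⟩ := hA
  have hsep' : IsSepClosed (ResidueField A) := hsep
  obtain ⟨B, _, _, _, h0, h1, h2, h3, h4, h5, h6, ⟨e⟩, h8⟩ :=
    exists_residue_of_isPurelyInseparable A q (AlgebraicClosure (ResidueField A))
  have hB : IsRegularLocalRing B := h6 inferInstance
  have hac : IsAlgClosed (ResidueField B) :=
    IsAlgClosed.of_ringEquiv _ _ e.symm.toRingEquiv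
  have : IsDomain B := Groth.Agent.CalgA.RegBasic.isDomain B
  obtain ⟨hH, -, -⟩ := Groth.Agent.S1964.result A B
  refine ⟨B, inferInstance, inferInstance, hB, h0, ⟨hH, ?_⟩, hac,
    charP_of_injective_algebraMap (algebraMap (ResidueField A) (ResidueField B)).injective q,
    h2, h3, h4, h5, h8⟩
  exact inferInstanceAs (IsSepClosed (ResidueField B))

end Groth.Agent.EtDual.K850.ResPerf
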