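import Groth.Agent.EtDual.K850.RedA
import Groth.Agent.EtDual.K850.RedB
import Groth.Agent.EtDual.K850.ResSh
import Groth.Agent.EtDual.K375.Cohen
import Groth.Agent.S15762
import Groth.Agent.S0548
import Groth.Agent.S19474
import Groth.Agent.Brnch.K580.Cpl
import Groth.Agent.Coherent.K98.CplFactor
import Groth.Agent.CalgB.RegPar

/-!
# Reduction of weak punctual purity to the perfectoid tower
-/

set_option autoImplicit false
universe u
open CategoryTheory CategoryTheory.Limits AlgebraicGeometry Opposite
open scoped Groth.Agent.Etcore.EtInst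
open IsLocalRing

namespace Groth.Agent.EtDual.K850.Red

theorem isTorsion_const (X : Scheme.{u}) (n : ℕ) (hn : 0 < n) :
    EtCoh.IsTorsion (EtCoh.const X (ZMod n)) := by
  intro U s x
  refine ⟨U, 𝟙 U, ⟨x, rfl⟩, ?_⟩
  rw [isOfFinAddOrder_iff_nsmul_eq_zero]
  exact ⟨n, hn, killedBy_const X n U _⟩

/-- The completion step. -/
theorem puncWeakAt_of_completion (ℓ : ℕ) (hℓ : 0 < ℓ) (A : Type u) [CommRing A]
    [IsNoetherianRing A] [HenselianLocalRing A] (d : ℕ) (hd : 1 ≤ d)
    (h : K726.PuncWeakAt ℓ (AdicCompletion (maximalIdeal A) A) d) : K726.PuncWeakAt ℓ A d := by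
  let C := AdicCompletion (maximalIdeal A) A
  have hnC : IsNoetherianRing C := Groth.Agent.S0543.result _ _
  have hloc : IsLocalHom (algebraMap A C) := inferInstance
  have hmax : maximalIdeal C = (maximalIdeal A).map (algebraMap A C) :=
    AdicCompletion.maximalIdeal_eq_map
  have hhC : HenselianLocalRing C := K580.Cpl.henselian A
  have hhC' : HenselianRing C ((maximalIdeal A).map (algebraMap A C)) := by
    rw [← hmax]; infer_instance
  have hhA : HenselianRing A (maximalIdeal A) := inferInstance
  refine puncWeakAt_of_injective ℓ d (algebraMap A C) hloc (hmax.le.trans Ideal.le_radical)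
    (fun q _ => ?_) hd h
  refine (Groth.Agent.S15762.result A C (algebraMap A C) (maximalIdeal A)
    (fun n => Groth.Agent.Coherent.K98.CplFactor.bijective_quotientMap (maximalIdeal A)
      (maximalIdeal A).fg_of_isNoetherianRing n) (FEt.puncturedSpec A) (fun P hP => ?_) _
    (isTorsion_const _ ℓ hℓ) q).1
  exact (mem_puncturedSpec P).2 fun h => hP h.ge

/-- A regular local ring of dimension `d` has `d` generators of its maximal ideal. -/
theorem exists_params (R : Type u) [CommRing R] [IsRegularLocalRing R] {d : ℕ}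
    (hd : ringKrullDim R = d) : ∃ l : Fin d → R, Ideal.span (Set.range l) = maximalIdeal R := by
  obtain ⟨l, rfl, hlR⟩ := Groth.Agent.CalgB.RegPar.exists_list R hd
  refine ⟨fun i => l[i], ?_⟩
  rw [← hlR, Ideal.ofList]
  congr 1
  ext x
  simp [List.mem_iff_getElem, Fin.exists_iff]

theorem quasiCompact_puncturedSpec (A : Type u) [CommRing A] [IsLocalRing A]
    [IsNoetherianRing A] : QuasiCompact (FEt.puncturedSpec A).ι := by
  have : IsLocallyNoetherian (Spec (CommRingCat.of A)) := inferInstance
  infer_instance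

open Groth.Agent.EtDual.K375.Tower in
/-- Complete regular local rings with perfect residue field: reduction to the tower. -/
theorem puncWeakAt_of_Rinf (ℓ : ℕ) (p : ℕ) [Fact p.Prime] (hℓ : ℓ.Coprime p)
    {k : Type u} [Field k] [CharP k p] [PerfectRing k p] (R : Type u) [CommRing R]
    [IsRegularLocalRing R] [IsAdicComplete (maximalIdeal R) R] (π : R →+* k)
    (hπ : Function.Surjective π) (d : ℕ) (hd : 1 ≤ d) (hdim : ringKrullDim R = d)
    (h : ∀ (f : A p k d) (hf : f ∈ Ideal.span (Set.range (MvPowerSeries.X : Fin d → A p k d))),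
      Nonempty (Rm f 0 ≃+* R) →
      haveI := isLocalRing_Rinf hf
      K726.PuncWeakAt ℓ (Rinf f) d) : K726.PuncWeakAt ℓ R d := by
  obtain ⟨t, ht⟩ := exists_params R hdim
  obtain ⟨f, hf, e, he, -⟩ := exists_presentation (p := p) R π hπ hdim t ht
  have hloc := isLocalRing_Rinf hf
  have hreg := isRegularLocalRing_Rm hf 0
  let φ : R →+* Rinf f := (toInf f 0).comp e.symm.toRingHom
  have h1 : CohInj ℓ (CommRingCat.ofHom e.symm.toRingHom) := by
    have : IsIso (CommRingCat.ofHom e.symm.toRingHom) :=
      (RingEquiv.toCommRingCatIso e.symm).isIso_hom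
    exact CohInj.of_isIso _
  have h2 : CohInj ℓ (CommRingCat.ofHom φ) := h1.comp (cohInj_toInf ℓ hℓ f)
  have hloc1 : IsLocalHom e.symm.toRingHom := inferInstanceAs (IsLocalHom (e.symm : R →+* Rm f 0))
  have hloc2 : IsLocalHom (toInf f 0) := isLocalHom_toInf hf 0
  have hloc3 : IsLocalHom φ := RingHom.isLocalHom_comp _ _
  refine puncWeakAt_of_cohInj ℓ d φ hloc3 ?_ (quasiCompact_puncturedSpec R) h2 hd (h f hf ⟨e⟩)
  have h3 : (maximalIdeal R).map φ = Ideal.span (Set.range (xInf f 0)) := by
    rw [← ht, Ideal.map_span, ← Set.range_comp]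
    congr 2
    funext i
    change toInf f 0 (e.symm (t i)) = toInf f 0 (x f 0 i)
    rw [← he i, RingEquiv.symm_apply_apply]
  rw [h3, radical_span_xInf hf 0]

open Groth.Agent.EtDual.K375.Tower in
/-- **Reduction** of weak punctual purity in mixed characteristic to the rings `R_∞`. -/
theorem puncWeakAt_mixed (ℓ : ℕ) (p : ℕ) [Fact p.Prime] (hℓ0 : 0 < ℓ) (hℓ : ℓ.Coprime p)
    (R : Type u) [CommRing R] [IsRegularLocalRing R] (hR : EtCoh.IsStrictlyHenselianLocalRing R)
    [CharP (ResidueField R) p] (hp : (p : R) ≠ 0) (d : ℕ) (hd : 1 ≤ d) (hdim : ringKrullDim R = d)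
    (h : ∀ (k : Type u) [Field k] [IsAlgClosed k] [CharP k p] [PerfectRing k p]
      (f : A p k d) (hf : f ∈ Ideal.span (Set.range (MvPowerSeries.X : Fin d → A p k d))),
      (p : Rm f 0) ≠ 0 →
      haveI := isLocalRing_Rinf hf
      K726.PuncWeakAt ℓ (Rinf f) d) : K726.PuncWeakAt ℓ R d := by
  obtain ⟨B, _, _, hBreg, hloc, ⟨hH, -⟩, hac, hcp, hfl, hint, hmax, hdimB, hinj⟩ :=
    ResPerf.exists_algClosed_residue R hR p
  refine puncWeakAt_of_cohInj ℓ d (algebraMap R B) hloc (hmax.ge.trans Ideal.le_radical)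
    (quasiCompact_puncturedSpec R) (hinj ℓ hℓ) hd ?_
  have hHB : HenselianLocalRing B := hH
  have hfB : Module.FaithfullyFlat R B := Module.FaithfullyFlat.of_flat_of_isLocalHom
  have hpB : (p : B) ≠ 0 := by
    intro h0
    apply hp
    apply FaithfulSMul.algebraMap_injective R B
    rw [map_natCast, h0, map_zero]
  have key : K726.PuncWeakAt ℓ (AdicCompletion (maximalIdeal B) B) d := by
    let C := AdicCompletion (maximalIdeal B) B
    have hnC : IsNoetherianRing C := Groth.Agent.S0543.result _ _
    have hregC : IsRegularLocalRing C := (Groth.Agent.S0548.result B).1 inferInstance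
    have hdimC : ringKrullDim C = d := by
      rw [(Groth.Agent.S19474.result B (maximalIdeal B) (maximalIdeal.isMaximal B).ne_top).1,
        hdimB, hdim]
    have hfC : Module.FaithfullyFlat B C := K580.Cpl.faithfullyFlat B
    have hpC : (p : C) ≠ 0 := by
      intro h0
      apply hpB
      apply FaithfulSMul.algebraMap_injective B C
      rw [map_natCast, h0, map_zero]
    have hcC : IsAdicComplete (maximalIdeal C) C := inferInstance
    let π : C →+* ResidueField B :=
      (Ideal.Quotient.factor (Ideal.pow_le_self one_ne_zero : maximalIdeal B ^ 1 ≤ _)).comp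
        (AdicCompletion.evalₐ (maximalIdeal B) 1).toRingHom
    have hπ : Function.Surjective π :=
      (Ideal.Quotient.factor_surjective (Ideal.pow_le_self one_ne_zero :
        maximalIdeal B ^ 1 ≤ _)).comp (AdicCompletion.surjective_evalₐ _ _)
    have : ExpChar (ResidueField B) p := ExpChar.prime Fact.out
    have hperf : PerfectRing (ResidueField B) p := inferInstance
    refine puncWeakAt_of_Rinf ℓ p hℓ C π hπ d hd hdimC (fun f hf ⟨e⟩ => ?_)
    refine h (ResidueField B) f hf (fun h0 => hpC ?_)
    rw [← map_natCast e p, h0, map_zero]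
  exact puncWeakAt_of_completion ℓ hℓ0 B d hd key

open Groth.Agent.EtDual.K375.Tower in
/-- **Reduction** of weak punctual purity (coefficients `ℤ/ℓ`) to equal characteristic and to the rings
`R_∞` of the perfectoid tower. -/
theorem puncWeak (ℓ : ℕ) (hℓ : ℓ.Prime)
    (Heq : ∀ (A : Type u) [CommRing A] [IsRegularLocalRing A],
      EtCoh.IsStrictlyHenselianLocalRing A → IsUnit (ℓ : A) →
      ringChar A = ringChar (ResidueField A) → ∀ d : ℕ, ringKrullDim A = d → 2 ≤ d →
      K726.PuncWeakAt ℓ A d)
    (Hinf : ∀ (p : ℕ) [Fact p.Prime] (k : Type u) [Field k] [IsAlgClosed k] [CharP k p]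
      [PerfectRing k p] (d : ℕ) (f : A p k d)
      (hf : f ∈ Ideal.span (Set.range (MvPowerSeries.X : Fin d → A p k d))),
      (p : Rm f 0) ≠ 0 → ℓ ≠ p → 2 ≤ d →
      haveI := isLocalRing_Rinf hf
      K726.PuncWeakAt ℓ (Rinf f) d) : K726.PuncWeak.{u} ℓ := by
  intro A _ _ hA hu d hdim hd
  by_cases hch : ringChar A = ringChar (ResidueField A)
  · exact Heq A hA hu hch d hdim hd
  · set p := ringChar (ResidueField A) with hpdef
    have hcp : CharP (ResidueField A) p := ringChar.charP _
    have hdvd : ∀ n : ℕ, (n : A) = 0 → (n : ResidueField A) = 0 := fun n hn => by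
      rw [← map_natCast (residue A), hn, map_zero]
    have hp0 : p ≠ 0 := by
      intro h0
      apply hch
      rw [h0]
      have h1 : (ringChar A : A) = 0 := ringChar.Nat.cast_ringChar
      have h2 := (CharP.cast_eq_zero_iff (ResidueField A) p _).1 (hdvd _ h1)
      rw [h0] at h2
      exact Nat.eq_zero_of_zero_dvd h2
    have hpp : p.Prime := (CharP.char_is_prime_or_zero (ResidueField A) p).resolve_right hp0
    have : Fact p.Prime := ⟨hpp⟩
    have hpA : (p : A) ≠ 0 := by
      intro h0
      have h1 : ringChar A ∣ p := (ringChar.spec A p).1 h0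
      rcases (Nat.dvd_prime hpp).1 h1 with h2 | h2
      · have h3 : ((1 : ℕ) : A) = 0 := by
          rw [← h2]; exact ringChar.Nat.cast_ringChar
        rw [Nat.cast_one] at h3
        exact one_ne_zero h3
      · exact hch h2
    have hℓp : ℓ ≠ p := by
      intro h0
      have h1 : IsUnit ((ℓ : ℕ) : ResidueField A) := by
        have := hu.map (residue A)
        rwa [map_natCast] at this
      rw [h0, CharP.cast_eq_zero] at h1
      exact not_isUnit_zero h1
    refine puncWeakAt_mixed ℓ p hℓ.pos ((Nat.coprime_primes hℓ hpp).2 hℓp) A hA hpA d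
      (by omega) hdim (fun k _ _ _ _ f hf h0 => ?_)
    exact Hinf p k d f hf h0 hℓp hd

end Groth.Agent.EtDual.K850.Red
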