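import Groth.Agent.EtDual.K850.CohInj
import Groth.Agent.Ega3A.FlatResField
import Mathlib.FieldTheory.PurelyInseparable.Basic
import Mathlib.RingTheory.LocalRing.ResidueField.Instances
import Mathlib.RingTheory.TensorProduct.Quotient

/-!
# Purely inseparable residue field extensions of local rings

`A` a local ring with residue field of characteristic `q > 0`, `K` a purely inseparable extension of the
residue field.  Then there is a flat local integral extension `A → B` with `m_A B = m_B` and residue field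
`K` (`B` Noetherian if `A` is), such that base change along `A → B` is injective on étale cohomology
with coefficients killed by an integer prime to `q`.
-/

set_option autoImplicit false

universe u v

namespace Groth.Agent.EtDual.K850.ResPerf

open CategoryTheory CategoryTheory.Limits IsLocalRing
open Groth.Agent.Ega3A.LocalColim Groth.Agent.Ega3A.FlatResField
open scoped TensorProduct

section Rank

/-- The rank of a finite free local algebra with `m_A B = m_B` is the degree of the residue field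
extension. -/
theorem finrank_eq_finrank_residueField (A B : Type u) [CommRing A] [CommRing B] [IsLocalRing A]
    [IsLocalRing B] [Algebra A B] [IsLocalHom (algebraMap A B)] [Module.Free A B]
    (h : (maximalIdeal A).map (algebraMap A B) = maximalIdeal B) :
    Module.finrank A B = Module.finrank (ResidueField A) (ResidueField B) := by
  rw [← Module.finrank_baseChange (R := ResidueField A) (S := A) (M' := B)]
  let e₁ : ((A ⧸ maximalIdeal A) ⊗[A] B) ≃ₗ[A] B ⧸ (maximalIdeal A • (⊤ : Submodule A B)) :=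
    TensorProduct.quotTensorEquivQuotSMul B (maximalIdeal A)
  have h2 : (maximalIdeal A • (⊤ : Submodule A B)) = (maximalIdeal B).restrictScalars A := by
    rw [← h, Ideal.smul_top_eq_map]
  let e₂ : (B ⧸ (maximalIdeal A • (⊤ : Submodule A B))) ≃ₗ[A]
      (B ⧸ (maximalIdeal B).restrictScalars A) := Submodule.quotEquivOfEq _ _ h2
  let e₃ : (B ⧸ (maximalIdeal B).restrictScalars A) ≃ₗ[A] (B ⧸ maximalIdeal B) :=
    Submodule.Quotient.restrictScalarsEquiv A (maximalIdeal B)
  let e : (ResidueField A ⊗[A] B) ≃ₗ[A] ResidueField B := (e₁.trans e₂).trans e₃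
  exact (e.extendScalarsOfSurjective (S := ResidueField A) IsLocalRing.residue_surjective).finrank_eq

theorem exists_finrank_eq_pow {A B : Type u} [CommRing A] [CommRing B] [IsLocalRing A]
    [IsLocalRing B] [Algebra A B] [IsLocalHom (algebraMap A B)] [Module.Free A B] [Module.Finite A B]
    (h : (maximalIdeal A).map (algebraMap A B) = maximalIdeal B) {K : Type v} [Field K]
    (q : ℕ) [Fact q.Prime] [CharP K q] (τ : B →+* K) (hτ : RingHom.ker τ = maximalIdeal B)
    (hK : ∀ b : B, ∃ r : ℕ, τ b ^ q ^ r ∈ (τ.comp (algebraMap A B)).range) :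
    ∃ r : ℕ, Module.finrank A B = q ^ r := by
  rw [finrank_eq_finrank_residueField A B h]
  let τ' : ResidueField B →+* K := Ideal.Quotient.lift (maximalIdeal B) τ (fun b hb => by
    rw [← hτ] at hb; exact hb)
  have hτ' : ∀ b, τ' (residue B b) = τ b := fun b => rfl
  have hq : ExpChar (ResidueField A) q := by
    have h1 : CharP (ResidueField A) q :=
      (RingHom.charP_iff (τ'.comp (algebraMap (ResidueField A) (ResidueField B)))
        (RingHom.injective _) q).2 inferInstance
    exact ExpChar.prime Fact.out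
  have hpi : IsPurelyInseparable (ResidueField A) (ResidueField B) := by
    rw [isPurelyInseparable_iff_pow_mem (ResidueField A) q]
    intro x
    obtain ⟨b, rfl⟩ := residue_surjective x
    obtain ⟨r, a, ha⟩ := hK b
    refine ⟨r, residue A a, ?_⟩
    apply τ'.injective
    rw [map_pow, hτ', ← ha]
    rfl
  have hfin : Module.Finite (ResidueField A) (ResidueField B) := inferInstance
  exact IsPurelyInseparable.finrank_eq_pow (ResidueField A) (ResidueField B) q

end Rank

/-- Integral, and injective on étale cohomology with torsion prime to `q`. -/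
def W (q : ℕ) {A B : CommRingCat.{u}} (φ : A ⟶ B) : Prop :=
  φ.hom.IsIntegral ∧ ∀ n : ℕ, n.Coprime q → CohInj n φ

theorem W.comp {q : ℕ} {A B C : CommRingCat.{u}} {φ : A ⟶ B} {ψ : B ⟶ C} (hφ : W q φ)
    (hψ : W q ψ) : W q (φ ≫ ψ) :=
  ⟨RingHom.IsIntegral.trans _ _ hφ.1 hψ.1, fun n hn => (hφ.2 n hn).comp (hψ.2 n hn)⟩

theorem W.of_isIso (q : ℕ) {A B : CommRingCat.{u}} (φ : A ⟶ B) [IsIso φ] : W q φ :=
  ⟨RingHom.isIntegral_of_surjective _ (ConcreteCategory.bijective_of_isIso φ).2,
    fun _ _ => CohInj.of_isIso φ⟩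

theorem W.of_free {q : ℕ} (A B : Type u) [CommRing A] [CommRing B] [Algebra A B]
    [Nontrivial A] [Module.Finite A B] [Module.Free A B] (r : ℕ) (hr : Module.finrank A B = q ^ r) :
    W q (CommRingCat.ofHom (algebraMap A B)) :=
  ⟨algebraMap_isIntegral_iff.2 inferInstance, fun n hn => CohInj.of_free A B (by
    rw [hr]; exact (hn.pow_right r).symm)⟩

theorem W.colim {q : ℕ} {J : Type u} [Preorder J] [IsDirected J (· ≤ ·)] [Nonempty J]
    (D : J ⥤ CommRingCat.{u}) (c : Cocone D) (hc : IsColimit c) {A : CommRingCat.{u}}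
    (τ : ∀ j, A ⟶ D.obj j) (hτ : ∀ ⦃i j : J⦄ (h : i ⟶ j), τ i ≫ D.map h = τ j)
    (h : ∀ j, W q (τ j)) (t : A ⟶ c.pt) (ht : ∀ j, τ j ≫ c.ι.app j = t) : W q t := by
  refine ⟨fun b => ?_, fun n hn => CohInj.colim D c hc τ hτ (fun j => (h j).2 n hn) t ht⟩
  have hc' := isColimitOfPreserves (forget CommRingCat.{u}) hc
  obtain ⟨i, x, rfl⟩ := Types.jointly_surjective_of_isColimit hc' b
  obtain ⟨P, hP, hP0⟩ := (h i).1 x
  refine ⟨P, hP, ?_⟩
  have h1 : t.hom = (c.ι.app i).hom.comp (τ i).hom := by
    rw [← ht i]; rfl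
  rw [h1]
  change Polynomial.eval₂ ((c.ι.app i).hom.comp (τ i).hom) ((c.ι.app i).hom x) P = 0
  rw [← Polynomial.hom_eval₂, hP0, map_zero]

variable {K : Type u} [Field K]

/-- A local ring over `K`, with residue field embedding in `K` and `K` purely inseparable over it;
Noetherian if `p` holds. -/
def GoodI (q : ℕ) (p : Prop) (X : Over (CommRingCat.of K)) : Prop :=
  Good p X ∧ ∀ a : K, ∃ r : ℕ, a ^ q ^ r ∈ X.hom.hom.range

/-- good morphisms which are in `W q`. -/
def GoodMorI (q : ℕ) {A B : CommRingCat.{u}} (φ : A ⟶ B) : Prop := GoodMor φ.hom ∧ W q φ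

theorem GoodMorI.comp {q : ℕ} {A B C : CommRingCat.{u}} [IsLocalRing B] {φ : A ⟶ B} {ψ : B ⟶ C}
    (hφ : GoodMorI q φ) (hψ : GoodMorI q ψ) : GoodMorI q (φ ≫ ψ) :=
  ⟨hφ.1.comp hψ.1, hφ.2.comp hψ.2⟩

theorem GoodMorI.of_isIso (q : ℕ) {A B : CommRingCat.{u}} (φ : A ⟶ B) [IsIso φ] :
    GoodMorI q φ :=
  ⟨GoodMor.of_equiv (asIso φ).commRingCatIsoToRingEquiv, W.of_isIso q φ⟩

theorem GoodI.of_mor {q : ℕ} {p : Prop} {X Y : Over (CommRingCat.of K)} (f : X ⟶ Y)
    (hX : GoodI q p X) (hf : GoodMor f.left.hom) (hY : IsLocalRing Y.left)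
    (hp : p → IsNoetherianRing Y.left) : GoodI q p Y := by
  refine ⟨Good.of_mor f hX.1 hf hY hp, fun a => ?_⟩
  obtain ⟨r, x, hx⟩ := hX.2 a
  refine ⟨r, f.left.hom x, ?_⟩
  rw [← hx]
  have := Over.w f
  rw [← this]; rfl

theorem GoodI.of_iso {q : ℕ} {p : Prop} {X Y : Over (CommRingCat.of K)} (e : X ≅ Y)
    (hX : GoodI q p X) : GoodI q p Y ∧ GoodMorI q e.hom.left := by
  have h := Good.of_iso e hX.1
  have : IsIso e.hom.left := inferInstanceAs (IsIso ((Over.forget _).map e.hom))
  exact ⟨GoodI.of_mor e.hom hX h.2 h.1.choose h.1.choose_spec.2, GoodMorI.of_isIso q _⟩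

/-- One step. -/
theorem exists_stepI (q : ℕ) [Fact q.Prime] [CharP K q] (p : Prop) [LinearOrder K]
    (X : Over (CommRingCat.of K)) :
    ∃ (Y : Over (CommRingCat.of K)) (f : X ⟶ Y), GoodI q p X →
      (GoodI q p Y ∧ GoodMorI q f.left ∧
        ∀ a : K, (∀ b < a, b ∈ X.hom.hom.range) → a ∈ Y.hom.hom.range) := by
  by_cases hX : GoodI q p X
  · by_cases h : ∃ a : K, a ∉ X.hom.hom.range ∧ ∀ b < a, b ∈ X.hom.hom.range
    · obtain ⟨a, ha, hab⟩ := h
      obtain ⟨⟨hXl, hXk, hXp⟩, hXi⟩ := hX
      have hint : X.hom.hom.IsIntegralElem a := by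
        obtain ⟨r, x, hx⟩ := hXi a
        refine ⟨Polynomial.X ^ (q ^ r) - Polynomial.C x, ?_, ?_⟩
        · exact Polynomial.monic_X_pow_sub_C _ (pow_ne_zero _ (Fact.out : q.Prime).ne_zero)
        · rw [Polynomial.eval₂_sub, Polynomial.eval₂_X_pow, Polynomial.eval₂_C, ← hx, sub_self]
      obtain ⟨B, _, _, _, τ, h1, h2, h3, h4, h5, h6, b, hb⟩ :=
        Groth.Agent.Ega3A.OneStepAlg.oneStepAlg X.hom.hom hXk a hint
      have hmor : GoodMor (algebraMap X.left B) := by
        refine ⟨?_, h1, fun _ _ => h4⟩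
        rw [RingHom.flat_algebraMap_iff]
        infer_instance
      obtain ⟨r, hr⟩ := exists_finrank_eq_pow (A := X.left) (B := B) h4 q τ h5 (fun b => by
        rw [h6]
        exact hXi (τ b))
      let Y : Over (CommRingCat.of K) := Over.mk (CommRingCat.ofHom τ)
      let f : X ⟶ Y := Over.homMk (CommRingCat.ofHom (algebraMap X.left B)) (by
        ext x
        exact congrArg (fun φ => φ x) h6)
      refine ⟨Y, f, fun hX' => ⟨GoodI.of_mor f hX' hmor ‹_› (fun hp => ?_),
        ⟨hmor, W.of_free X.left B r hr⟩, ?_⟩⟩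
      · have := hXp hp
        exact IsNoetherianRing.of_finite X.left B
      intro a' ha'
      rcases lt_trichotomy a a' with hlt | rfl | hlt
      · exact (ha (ha' a hlt)).elim
      · exact ⟨b, hb⟩
      · obtain ⟨x, hx⟩ := hab a' hlt
        refine ⟨algebraMap X.left B x, ?_⟩
        rw [← hx]
        exact congrArg (fun φ => φ x) h6
    · refine ⟨X, 𝟙 X, fun _ => ⟨hX, GoodMorI.of_isIso q (𝟙 X.left), fun a ha => ?_⟩⟩
      by_contra hna
      exact h ⟨a, hna, ha⟩
  · exact ⟨X, 𝟙 X, fun h => (hX h).elim⟩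

/-- The successor structure adding the least missing element of `K`. -/
noncomputable def succStructI (q : ℕ) [Fact q.Prime] [CharP K q] (p : Prop) [LinearOrder K]
    (X₀ : Over (CommRingCat.of K)) : SmallObject.SuccStruct (Over (CommRingCat.of K)) where
  X₀ := X₀
  succ X := (exists_stepI q p X).choose
  toSucc X := (exists_stepI q p X).choose_spec.choose

theorem succStructI_spec (q : ℕ) [Fact q.Prime] [CharP K q] (p : Prop) [LinearOrder K]
    (X₀ X : Over (CommRingCat.of K)) (hX : GoodI q p X) :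
    GoodI q p ((succStructI q p X₀).succ X) ∧ GoodMorI q ((succStructI q p X₀).toSucc X).left ∧
        ∀ a : K, (∀ b < a, b ∈ X.hom.hom.range) →
          a ∈ ((succStructI q p X₀).succ X).hom.hom.range :=
  (exists_stepI q p X).choose_spec.choose_spec hX

theorem goodI_iteration (q : ℕ) [Fact q.Prime] [CharP K q] (p : Prop) [LinearOrder K]
    (X₀ : Over (CommRingCat.of K)) (h₀ : GoodI q p X₀) {J : Type u} [LinearOrder J] [OrderBot J]
    [SuccOrder J] [WellFoundedLT J] (j : J) :
    GoodI q p (((succStructI q p X₀).iterationFunctor J).obj j) ∧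
      (∀ (i : J) (h : i ≤ j),
        GoodMor (((succStructI q p X₀).iterationFunctor J).map (homOfLE h)).left.hom) ∧
      W q (((succStructI q p X₀).iterationFunctor J).map (homOfLE (bot_le : ⊥ ≤ j))).left := by
  set Φ := succStructI q p X₀
  set F := Φ.iterationFunctor J
  induction j using SuccOrder.limitRecOn with
  | isMin j hj =>
    obtain rfl := hj.eq_bot
    have h1 : F.map (homOfLE (bot_le : (⊥ : J) ≤ ⊥)) = 𝟙 _ := F.map_id _
    refine ⟨(GoodI.of_iso (Φ.iterationFunctorObjBotIso J).symm h₀).1, fun i hi => ?_, ?_⟩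
    · obtain rfl := le_bot_iff.1 hi
      rw [h1]
      exact GoodMor.id _
    · rw [h1]
      exact W.of_isIso q (𝟙 (F.obj ⊥).left)
  | succ j hj ih =>
    obtain ⟨hg, ih, ihW⟩ := ih
    obtain ⟨h1, h2, -⟩ := succStructI_spec q p X₀ _ hg
    obtain ⟨h3, h4⟩ := GoodI.of_iso (Φ.iterationFunctorObjSuccIso j hj).symm h1
    have hs : GoodMorI q (F.map (homOfLE (Order.le_succ j))).left := by
      rw [Φ.iterationFunctor_map_succ j hj]
      have := h1.1.choose
      exact h2.comp h4
    refine ⟨h3, fun i hi => ?_, ?_⟩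
    · rcases hi.lt_or_eq with hi' | rfl
      · have hij : i ≤ j := (Order.lt_succ_iff_of_not_isMax hj).1 hi'
        exact goodMor_map_comp F hij (Order.le_succ j) hg.1.choose (ih i hij) hs.1
      · have : F.map (homOfLE hi) = 𝟙 _ := F.map_id _
        rw [this]
        exact GoodMor.id _
    · have : F.map (homOfLE (bot_le : ⊥ ≤ Order.succ j)) =
          F.map (homOfLE (bot_le : ⊥ ≤ j)) ≫ F.map (homOfLE (Order.le_succ j)) := by
        rw [← F.map_comp]; rfl
      rw [this]
      exact ihW.comp hs.2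
  | isSuccLimit j hj ih =>
    have hne : Nonempty (Set.Iio j) := ⟨⟨⊥, hj.bot_lt⟩⟩
    have hc := F.isColimitOfIsWellOrderContinuous j hj
    have hc' := isColimitOfPreserves (Over.forget _) hc
    have H : IsDirColim (G := fun i : Set.Iio j => (F.obj i).left) (B := (F.obj j).left)
        (fun i k (h : i ≤ k) => (F.map (homOfLE (show (i : J) ≤ k from h))).left.hom)
        (fun i => (F.map (homOfLE (show (i : J) ≤ j from i.2.le))).left.hom) :=
      isDirColim_of_isColimit _ _ hc'
    have hl : ∀ i : Set.Iio j, IsLocalRing (F.obj i).left := fun i => (ih i i.2).1.1.choose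
    have hY : IsLocalRing (F.obj j).left := H.isLocalRing
    have hloc : ∀ (i k : Set.Iio j) (h : i ≤ k),
        IsLocalHom (F.map (homOfLE (show (i : J) ≤ k from h))).left.hom :=
      fun i k h => ((ih k k.2).2.1 i h).2.1
    have hflat : ∀ (i k : Set.Iio j) (h : i ≤ k),
        (F.map (homOfLE (show (i : J) ≤ k from h))).left.hom.Flat :=
      fun i k h => ((ih k k.2).2.1 i h).1
    have hmax : ∀ (i k : Set.Iio j) (h : i ≤ k), (maximalIdeal (F.obj i).left).map
        (F.map (homOfLE (show (i : J) ≤ k from h))).left.hom = maximalIdeal (F.obj k).left :=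
      fun i k h => ((ih k k.2).2.1 i h).2.2 _ _
    have hmor : ∀ i : Set.Iio j, GoodMor (F.map (homOfLE i.2.le)).left.hom := fun i =>
      ⟨H.flat hflat i, H.isLocalHom hloc i, fun _ _ => H.map_maximalIdeal hmax i
        (H.isLocalHom hloc i)⟩
    have hN : p → IsNoetherianRing (F.obj j).left := fun hp => by
      have : ∀ i : Set.Iio j, IsNoetherianRing (F.obj i).left :=
        fun i => (ih i i.2).1.1.choose_spec.2 hp
      exact H.isNoetherianRing hloc hmax hflat
    refine ⟨GoodI.of_mor (F.map (homOfLE hj.bot_lt.le)) (ih ⊥ hj.bot_lt).1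
      (hmor ⟨⊥, hj.bot_lt⟩) hY hN, fun i hi => ?_, ?_⟩
    · rcases hi.lt_or_eq with hi' | rfl
      · exact hmor ⟨i, hi'⟩
      · have : F.map (homOfLE hi) = 𝟙 _ := F.map_id _
        rw [this]
        exact GoodMor.id _
    · refine W.colim _ _ hc' (fun i => (F.map (homOfLE (bot_le : ⊥ ≤ (i : J)))).left) ?_
        (fun i => (ih i i.2).2.2) _ ?_
      · intro i k h
        have e := F.map_comp (homOfLE (bot_le : ⊥ ≤ (i : J)))
          (homOfLE (show (i : J) ≤ k from leOfHom h))
        exact (congrArg Over.Hom.left e).symm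
      · intro i
        have e := F.map_comp (homOfLE (bot_le : ⊥ ≤ (i : J)))
          (homOfLE (show (i : J) ≤ j from i.2.le))
        exact (congrArg Over.Hom.left e).symm

/-- Purely inseparable residue field extensions, with injectivity on étale cohomology. -/
theorem exists_flat_local_ext_insep {A : Type u} [CommRing A] [IsLocalRing A] (q : ℕ)
    [Fact q.Prime] [CharP K q] (σ : A →+* K) (hσ : RingHom.ker σ = maximalIdeal A)
    (hK : ∀ a : K, ∃ r : ℕ, a ^ q ^ r ∈ σ.range) :
    ∃ (B : Type u) (_ : CommRing B) (_ : Algebra A B) (_ : IsLocalRing B) (τ : B →+* K),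
      IsLocalHom (algebraMap A B) ∧ Module.Flat A B ∧
        (IsNoetherianRing A → IsNoetherianRing B) ∧
        (maximalIdeal A).map (algebraMap A B) = maximalIdeal B ∧
        RingHom.ker τ = maximalIdeal B ∧ τ.comp (algebraMap A B) = σ ∧
        Function.Surjective τ ∧ Algebra.IsIntegral A B ∧
        ∀ n : ℕ, n.Coprime q → CohInj n (CommRingCat.ofHom (algebraMap A B)) := by
  obtain ⟨_, _⟩ := exists_wellFoundedLT K
  let J := WithTop K
  have : WellFoundedLT J := inferInstance
  let _ : OrderBot J := WellFoundedLT.toOrderBot J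
  let _ : SuccOrder J := SuccOrder.ofLinearWellFoundedLT J
  let X₀ : Over (CommRingCat.of K) := Over.mk (CommRingCat.ofHom σ)
  have h₀ : GoodI q (IsNoetherianRing A) X₀ := ⟨⟨‹IsLocalRing A›, hσ, id⟩, hK⟩
  let Φ := succStructI q (IsNoetherianRing A) X₀
  let F := Φ.iterationFunctor J
  have hF := goodI_iteration q (IsNoetherianRing A) X₀ h₀ (J := J)
  obtain ⟨⟨⟨hB1, hB2, hB3⟩, -⟩, hB, hBW⟩ := hF ⊤
  obtain ⟨hg, hm⟩ := GoodI.of_iso (Φ.iterationFunctorObjBotIso J).symm h₀
  let f : X₀ ⟶ F.obj ⊤ := (Φ.iterationFunctorObjBotIso J).inv ≫ F.map (homOfLE bot_le)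
  have hf : GoodMorI q f.left := by
    have := hg.1.choose
    exact hm.comp ⟨hB ⊥ bot_le, hBW⟩
  let _ : Algebra A (F.obj ⊤).left := f.left.hom.toAlgebra
  have hmono : ∀ (i j : J), i ≤ j → (F.obj i).hom.hom.range ≤ (F.obj j).hom.hom.range := by
    rintro i j hij _ ⟨x, rfl⟩
    refine ⟨(F.map (homOfLE hij)).left.hom x, ?_⟩
    have := Over.w (F.map (homOfLE hij))
    rw [← this]; rfl
  have key : ∀ a : K, a ∈ (F.obj (Order.succ (a : J))).hom.hom.range := by
    intro a
    induction a using WellFoundedLT.induction with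
    | ind a ih =>
      have hna : ¬ IsMax (a : J) := fun h => by
        have := h.eq_top
        exact WithTop.coe_ne_top this
      have h1 := (succStructI_spec q (IsNoetherianRing A) X₀ _ (hF (a : J)).1).2.2 a
        (fun b hb => ?_)
      · obtain ⟨x, hx⟩ := h1
        have h2 := Over.w (Φ.iterationFunctorObjSuccIso (a : J) hna).inv
        refine ⟨(Φ.iterationFunctorObjSuccIso (a : J) hna).inv.left.hom x, Eq.trans ?_ hx⟩
        exact congrArg (fun φ => φ.hom x) h2
      · refine hmono _ _ ?_ (ih b hb)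
        exact Order.succ_le_of_lt (WithTop.coe_lt_coe.2 hb)
  refine ⟨(F.obj ⊤).left, inferInstance, inferInstance, hB1, (F.obj ⊤).hom.hom, hf.1.2.1, hf.1.1,
    hB3, hf.1.2.2 _ _, hB2, ?_, fun a => ?_, algebraMap_isIntegral_iff.1 hf.2.1,
    fun n hn => hf.2.2 n hn⟩
  · have := Over.w f
    exact congrArg (fun φ => φ.hom) this
  · exact hmono _ _ le_top (key a)

end Groth.Agent.EtDual.K850.ResPerf
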