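import Groth.Agent.EtDual.K850.StrictHens
import Groth.Agent.EtDual.K152.PuncPS
import Groth.Agent.S0073

/-!
# The étale cohomology of `Spec R_∞` and of `Spec S_∞`
-/

set_option autoImplicit false
universe u
open CategoryTheory CategoryTheory.Limits AlgebraicGeometry Opposite IsLocalRing

namespace Groth.Agent.EtDual.K850.SpecCoh

section Rinf

open Groth.Agent.EtDual.K375.Tower

variable {p : ℕ} [Fact p.Prime] {k : Type u} [Field k] [CharP k p] [PerfectRing k p]
  [IsAlgClosed k] {d : ℕ} {f : A p k d}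
  (hf : f ∈ Ideal.span (Set.range (MvPowerSeries.X : Fin d → A p k d)))

include hf

/-- `H^q(Spec R_∞, F) = 0` for `q ≥ 1` and every abelian étale sheaf `F`. -/
theorem subsingleton_H_Rinf (F : EtCoh.Ab (Spec (CommRingCat.of (Rinf f)))) (q : ℕ) (hq : 1 ≤ q) :
    Subsingleton (EtCoh.H (Spec (CommRingCat.of (Rinf f))) F q) := by
  obtain ⟨h1, h2⟩ := StrictHens.isStrictlyHenselianLocalRing_Rinf hf
  have h2' : IsSepClosed (ResidueField (Rinf f)) := h2
  exact Groth.Agent.S0073.result (Rinf f) F q hq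

theorem irreducibleSpace_Spec_Rinf : IrreducibleSpace (Spec (CommRingCat.of (Rinf f))) := by
  have := isDomain_Rinf hf
  exact inferInstanceAs (IrreducibleSpace (PrimeSpectrum (Rinf f)))

/-- `H^0(Spec R_∞, M) = M`. -/
theorem nonempty_H_zero_Rinf (M : Type) [AddCommGroup M] :
    Nonempty (EtCoh.H (Spec (CommRingCat.of (Rinf f)))
      (EtCoh.const (Spec (CommRingCat.of (Rinf f))) M) 0 ≃+ M) := by
  have := irreducibleSpace_Spec_Rinf hf
  exact Etrest.SHPoint.nonempty_H0_const _ M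

end Rinf

section Sinf

variable {k : Type u} [Field k] [IsSepClosed k] {d : ℕ} {S : Type u} [CommRing S] {p : ℕ}
  [Fact p.Prime] {φ : MvPowerSeries (Fin d) k →+* S} (h : K152.RadInv.IsRad p φ)

include h

theorem nonempty_equiv_Spec (M : Type) [AddCommGroup M] (q : ℕ) :
    Nonempty (EtCoh.H (Spec (CommRingCat.of (MvPowerSeries (Fin d) k)))
      (EtCoh.const (Spec (CommRingCat.of (MvPowerSeries (Fin d) k))) M) q ≃+
      EtCoh.H (Spec (CommRingCat.of S)) (EtCoh.const (Spec (CommRingCat.of S)) M) q) := by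
  refine K152.RadInv.nonempty_H_equiv h (𝟙 (Spec (CommRingCat.of (MvPowerSeries (Fin d) k))))
    (𝟙 (Spec (CommRingCat.of S))) ?_ M q
  ext x
  simp

/-- `H^q(Spec S_∞, M) = 0` for `q ≥ 1`. -/
theorem subsingleton_H_Sinf (M : Type) [AddCommGroup M] (q : ℕ) (hq : 1 ≤ q) :
    Subsingleton (EtCoh.H (Spec (CommRingCat.of S)) (EtCoh.const (Spec (CommRingCat.of S)) M) q) := by
  obtain ⟨e⟩ := nonempty_equiv_Spec h M q
  obtain ⟨h1, h2⟩ := K152.PuncPS.isStrictlyHenselian k d
  have h2' : IsSepClosed (ResidueField (MvPowerSeries (Fin d) k)) := h2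
  have := Groth.Agent.S0073.result (MvPowerSeries (Fin d) k)
    (EtCoh.const (Spec (CommRingCat.of (MvPowerSeries (Fin d) k))) M) q hq
  exact e.symm.toEquiv.subsingleton

/-- `H^0(Spec S_∞, M) = M`. -/
theorem nonempty_H_zero_Sinf (M : Type) [AddCommGroup M] :
    Nonempty (EtCoh.H (Spec (CommRingCat.of S)) (EtCoh.const (Spec (CommRingCat.of S)) M) 0 ≃+ M) := by
  obtain ⟨e⟩ := nonempty_equiv_Spec h M 0
  have hreg : IsRegularLocalRing (MvPowerSeries (Fin d) k) := K152.PuncPS.isRegularLocalRing k d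
  have hdom : IsDomain (MvPowerSeries (Fin d) k) := Groth.Agent.CalgA.RegBasic.isDomain _
  have : IrreducibleSpace (Spec (CommRingCat.of (MvPowerSeries (Fin d) k))) :=
    inferInstanceAs (IrreducibleSpace (PrimeSpectrum (MvPowerSeries (Fin d) k)))
  obtain ⟨e'⟩ := Etrest.SHPoint.nonempty_H0_const
    (Spec (CommRingCat.of (MvPowerSeries (Fin d) k))) M
  exact ⟨e.symm.trans e'⟩

end Sinf

end Groth.Agent.EtDual.K850.SpecCoh
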