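import Groth.Agent.EtDual.K375.TowerInf
import Groth.Agent.Pi1A.LefExt
import Groth.Agent.S1964
import Groth.Prelude.Def_EtBase

/-!
# `R_m` and `R_∞` are strictly henselian
-/

set_option autoImplicit false
universe u

open IsLocalRing

namespace Groth.Agent.EtDual.K850.StrictHens

open Groth.Agent.EtDual.K375.Tower

variable {p : ℕ} [Fact p.Prime] {k : Type u} [Field k] [CharP k p] [PerfectRing k p] {d : ℕ}
  {f : A p k d} (hf : f ∈ Ideal.span (Set.range (MvPowerSeries.X : Fin d → A p k d)))

include hf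

theorem henselianLocalRing_Rm (m : ℕ) : HenselianLocalRing (Rm f m) := by
  have := isRegularLocalRing_Rm hf m
  have := isAdicComplete_Rm hf m
  exact Groth.Agent.Pi1A.LefExt.henselianLocalRing_of_isAdicComplete _

/-- The residue field of `R_m`. -/
noncomputable def resEquiv (m : ℕ) [IsLocalRing (Rm f m)] : ResidueField (Rm f m) ≃+* k :=
  (Ideal.quotEquivOfEq (eq_maximalIdeal
    (RingHom.ker_isMaximal_of_surjective _ (res_surjective hf m))).symm).trans
    (RingHom.quotientKerEquivOfSurjective (res_surjective hf m))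

theorem isAlgClosed_residue_Rm [IsAlgClosed k] (m : ℕ) [IsLocalRing (Rm f m)] :
    IsAlgClosed (ResidueField (Rm f m)) :=
  IsAlgClosed.of_ringEquiv _ _ (resEquiv hf m).symm

theorem isStrictlyHenselianLocalRing_Rm [IsAlgClosed k] (m : ℕ) :
    EtCoh.IsStrictlyHenselianLocalRing (Rm f m) := by
  refine ⟨henselianLocalRing_Rm hf m, ?_⟩
  have := henselianLocalRing_Rm hf m
  have := isAlgClosed_residue_Rm hf m
  exact inferInstanceAs (IsSepClosed (ResidueField (Rm f m)))

omit [PerfectRing k p] hf in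
theorem isIntegral_toInf (m : ℕ) : (toInf f m).IsIntegral := by
  intro z
  obtain ⟨n, a, rfl⟩ := exists_toInf f z
  have h1 : toInf f n a = toInf f (max m n) (trLE f (le_max_right m n) a) :=
    (toInf_trLE f _ a).symm
  rw [h1]
  have h2 : (trLE f (le_max_left m n)).Finite := trLE_finite f _
  obtain ⟨P, hP, hP0⟩ := h2.to_isIntegral (trLE f (le_max_right m n) a)
  refine ⟨P, hP, ?_⟩
  have h3 : toInf f m = (toInf f (max m n)).comp (trLE f (le_max_left m n)) := by
    ext x
    exact (toInf_trLE f _ _).symm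
  rw [h3, ← Polynomial.hom_eval₂, hP0, map_zero]

theorem isStrictlyHenselianLocalRing_Rinf [IsAlgClosed k] :
    EtCoh.IsStrictlyHenselianLocalRing (Rinf f) := by
  have h1 := henselianLocalRing_Rm hf 0
  have h2 : IsSepClosed (ResidueField (Rm f 0)) := by
    have := isAlgClosed_residue_Rm hf 0
    infer_instance
  have h3 := isDomain_Rinf hf
  let _ : Algebra (Rm f 0) (Rinf f) := (toInf f 0).toAlgebra
  have h4 : Algebra.IsIntegral (Rm f 0) (Rinf f) :=
    algebraMap_isIntegral_iff.1 (isIntegral_toInf 0)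
  obtain ⟨h5, -, h6⟩ := Groth.Agent.S1964.result (Rm f 0) (Rinf f)
  exact ⟨h5, (h6 h2).1⟩

end Groth.Agent.EtDual.K850.StrictHens
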